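import Mathlib

set_option autoImplicit false
universe u v

namespace Groth.Agent.H17.MovLem

open Polynomial

variable {k : Type u} [Field k] {r : ℕ} {K : Type v} [Field K] [Algebra k K]

/-- substitution x_i ↦ x_i + g_i t^N -/
noncomputable def twist (g : Fin r → K) (N : ℕ) :
    MvPolynomial (Fin r) k →ₐ[k] Polynomial (MvPolynomial (Fin r) K) :=
  MvPolynomial.aeval (fun i : Fin r => C (MvPolynomial.X i) + C (MvPolynomial.C (g i)) * X ^ N)

theorem natDegree_factor_le (g : Fin r → K) (N : ℕ) (i : Fin r) :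
    (C (MvPolynomial.X i) + C (MvPolynomial.C (g i)) * X ^ N : Polynomial (MvPolynomial (Fin r) K)).natDegree ≤ N :=
  natDegree_add_le_of_degree_le (by simp) (natDegree_C_mul_X_pow_le _ _)

theorem natDegree_twist_monomial_le (g : Fin r → K) (N : ℕ) (m : Fin r →₀ ℕ) (a : k) :
    (twist g N (MvPolynomial.monomial m a)).natDegree ≤ N * m.degree := by
  rw [twist, MvPolynomial.aeval_monomial]
  refine natDegree_mul_le.trans ?_
  have h0 : (algebraMap k (Polynomial (MvPolynomial (Fin r) K)) a).natDegree = 0 := by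
    rw [Polynomial.algebraMap_apply, natDegree_C]
  rw [h0, Nat.zero_add, Finsupp.prod, Finsupp.degree_apply, Finset.mul_sum]
  refine (natDegree_prod_le _ _).trans (Finset.sum_le_sum fun i _ => ?_)
  exact (natDegree_pow_le_of_le _ (natDegree_factor_le g N i)).trans (Nat.mul_comm _ _).le

theorem coeff_twist_monomial (g : Fin r → K) {N : ℕ} (hN : 0 < N) (m : Fin r →₀ ℕ) (a : k) :
    (twist g N (MvPolynomial.monomial m a)).coeff (N * m.degree) =
      MvPolynomial.C (MvPolynomial.aeval g (MvPolynomial.monomial m a)) := by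
  rw [twist, MvPolynomial.aeval_monomial, MvPolynomial.aeval_monomial, Polynomial.algebraMap_apply,
    coeff_C_mul, map_mul]
  congr 1
  have e : (m.prod fun i e => (C (MvPolynomial.X i) + C (MvPolynomial.C (g i)) * X ^ N :
      Polynomial (MvPolynomial (Fin r) K)) ^ e) =
      ∏ i : Fin r, (C (MvPolynomial.X i) + C (MvPolynomial.C (g i)) * X ^ N) ^ m i :=
    Finsupp.prod_fintype _ _ (fun i => pow_zero _)
  rw [e, Finsupp.prod_fintype _ _ (fun i => pow_zero _), map_prod]
  -- coefficient at N * degree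
  have hd : N * m.degree = ∑ i : Fin r, N * m i := by
    rw [← Finset.mul_sum, Finsupp.degree_eq_sum]
  rw [hd]
  have : ∀ s : Finset (Fin r), (∏ i ∈ s, (C (MvPolynomial.X i) + C (MvPolynomial.C (g i)) * X ^ N :
      Polynomial (MvPolynomial (Fin r) K)) ^ m i).coeff (∑ i ∈ s, N * m i) =
      ∏ i ∈ s, MvPolynomial.C (g i ^ m i) ∧
      (∏ i ∈ s, (C (MvPolynomial.X i) + C (MvPolynomial.C (g i)) * X ^ N :
      Polynomial (MvPolynomial (Fin r) K)) ^ m i).natDegree ≤ ∑ i ∈ s, N * m i := by
    intro s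
    induction s using Finset.induction_on with
    | empty => simp
    | @insert i s hi ih =>
      have h1 : ((C (MvPolynomial.X i) + C (MvPolynomial.C (g i)) * X ^ N :
          Polynomial (MvPolynomial (Fin r) K)) ^ m i).natDegree ≤ N * m i :=
        (natDegree_pow_le_of_le _ (natDegree_factor_le g N i)).trans (Nat.mul_comm _ _).le
      refine ⟨?_, ?_⟩
      · rw [Finset.prod_insert hi, Finset.prod_insert hi, Finset.sum_insert hi,
          coeff_mul_add_eq_of_natDegree_le h1 ih.2, ih.1]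
        congr 1
        rw [Nat.mul_comm N (m i), coeff_pow_of_natDegree_le (natDegree_factor_le g N i), map_pow]
        congr 1
        rw [coeff_add, coeff_C_ne_zero (by omega), coeff_C_mul, coeff_X_pow_self, mul_one, zero_add]
      · rw [Finset.prod_insert hi, Finset.sum_insert hi]
        exact natDegree_mul_le.trans (Nat.add_le_add h1 ih.2)
  exact (this Finset.univ).1

theorem leadingCoeff_twist (f : Polynomial (MvPolynomial (Fin r) k)) (hf : f ≠ 0) :
    ∃ h : MvPolynomial (Fin r) k, h ≠ 0 ∧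
      ∀ N : ℕ, f.natDegree < N → ∀ (K : Type v) [Field K] [Algebra k K] (g : Fin r → K),
        MvPolynomial.aeval g h ≠ 0 →
        ∃ c : K, c ≠ 0 ∧ (eval₂ (twist g N).toRingHom X f).leadingCoeff = MvPolynomial.C c ∧
          (0 < f.natDegree → 0 < (eval₂ (twist g N).toRingHom X f).natDegree) := by
  classical
  -- terms
  let T : Finset ((_ : ℕ) × (Fin r →₀ ℕ)) := f.support.sigma fun i => (f.coeff i).support
  have hT : T.Nonempty := by
    obtain ⟨i, hi⟩ := Polynomial.support_nonempty.2 hf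
    obtain ⟨m, hm⟩ := MvPolynomial.support_nonempty.2 (Polynomial.mem_support_iff.1 hi)
    exact ⟨⟨i, m⟩, Finset.mem_sigma.2 ⟨hi, hm⟩⟩
  obtain ⟨D, hD⟩ : ∃ D : ℕ, D = T.sup' hT (fun p => p.2.degree) := ⟨_, rfl⟩
  have hT' : (T.filter fun p => p.2.degree = D).Nonempty := by
    obtain ⟨p, hp, he⟩ := Finset.exists_mem_eq_sup' hT (fun p => p.2.degree)
    exact ⟨p, Finset.mem_filter.2 ⟨hp, hD ▸ he.symm⟩⟩
  obtain ⟨i0, hi0⟩ : ∃ i0 : ℕ, i0 = (T.filter fun p => p.2.degree = D).sup' hT' (fun p => p.1) := ⟨_, rfl⟩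
  obtain ⟨p0, hp0, hp0'⟩ := Finset.exists_mem_eq_sup' hT' (fun p => p.1)
  rw [← hi0] at hp0'
  obtain ⟨hp0T, hp0D⟩ := Finset.mem_filter.1 hp0
  obtain ⟨hp0i, hp0m⟩ := Finset.mem_sigma.1 hp0T
  refine ⟨MvPolynomial.homogeneousComponent D (f.coeff i0), ?_, ?_⟩
  · intro h0
    have := congrArg (MvPolynomial.coeff p0.2) h0
    rw [MvPolynomial.coeff_homogeneousComponent, if_pos hp0D, MvPolynomial.coeff_zero, hp0'] at this
    exact MvPolynomial.mem_support_iff.1 hp0m this
  intro N hN K _ _ g hg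
  refine ⟨MvPolynomial.aeval g (MvPolynomial.homogeneousComponent D (f.coeff i0)), hg, ?_⟩
  have hF : eval₂ (twist g N).toRingHom X f =
      ∑ i ∈ f.support, ∑ m ∈ (f.coeff i).support,
        twist g N (MvPolynomial.monomial m (MvPolynomial.coeff m (f.coeff i))) * X ^ i := by
    rw [eval₂_eq_sum, Polynomial.sum_def]
    refine Finset.sum_congr rfl fun i _ => ?_
    rw [← Finset.sum_mul]
    congr 1
    show twist g N (f.coeff i) = _
    conv_lhs => rw [(f.coeff i).as_sum]
    rw [map_sum]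
  have hle : ∀ i ∈ f.support, i ≤ f.natDegree := fun i hi => le_natDegree_of_mem_supp i hi
  have hdeg : ∀ i ∈ f.support, ∀ m ∈ (f.coeff i).support, m.degree ≤ D := fun i hi m hm =>
    hD ▸ Finset.le_sup' (f := fun p : (_ : ℕ) × (Fin r →₀ ℕ) => p.2.degree)
      (show (⟨i, m⟩ : (_ : ℕ) × (Fin r →₀ ℕ)) ∈ T from Finset.mem_sigma.2 ⟨hi, hm⟩)
  have hmax : ∀ i ∈ f.support, ∀ m ∈ (f.coeff i).support, m.degree = D → i ≤ i0 := fun i hi m hm he =>
    hi0 ▸ Finset.le_sup' (f := fun p : (_ : ℕ) × (Fin r →₀ ℕ) => p.1)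
      (show (⟨i, m⟩ : (_ : ℕ) × (Fin r →₀ ℕ)) ∈ T.filter fun p => p.2.degree = D from
        Finset.mem_filter.2 ⟨Finset.mem_sigma.2 ⟨hi, hm⟩, he⟩)
  have hterm : ∀ i ∈ f.support, ∀ m ∈ (f.coeff i).support,
      (i = i0 ∧ m.degree = D) ∨ N * m.degree + i < N * D + i0 := by
    intro i hi m hm
    rcases (hdeg i hi m hm).lt_or_eq with h | h
    · right
      have : N * m.degree + N ≤ N * D := by
        rw [← Nat.mul_succ]; exact Nat.mul_le_mul_left N h
      have := hle i hi
      omega
    · rcases (hmax i hi m hm h).lt_or_eq with h' | h'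
      · right; rw [h]; omega
      · exact Or.inl ⟨h', h⟩
  have hterm_deg : ∀ i m, (twist g N (MvPolynomial.monomial m (MvPolynomial.coeff m (f.coeff i))) * X ^ i).natDegree ≤
      N * m.degree + i := fun i m =>
    natDegree_mul_le.trans (Nat.add_le_add (natDegree_twist_monomial_le g N m _) (natDegree_X_pow_le i))
  have hFle : (eval₂ (twist g N).toRingHom X f).natDegree ≤ N * D + i0 := by
    rw [hF]
    refine natDegree_sum_le_of_forall_le _ _ fun i hi => natDegree_sum_le_of_forall_le _ _ fun m hm => ?_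
    refine (hterm_deg i m).trans ?_
    rcases hterm i hi m hm with ⟨rfl, h⟩ | h
    · rw [h]
    · omega
  have hcoeff : (eval₂ (twist g N).toRingHom X f).coeff (N * D + i0) =
      MvPolynomial.C (MvPolynomial.aeval g (MvPolynomial.homogeneousComponent D (f.coeff i0))) := by
    rw [hF, finset_sum_coeff, Finset.sum_eq_single_of_mem i0 (hp0' ▸ hp0i)]
    · rw [finset_sum_coeff, MvPolynomial.homogeneousComponent_apply, map_sum, map_sum, Finset.sum_filter]
      refine Finset.sum_congr rfl fun m hm => ?_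
      by_cases h : m.degree = D
      · rw [if_pos h, coeff_mul_X_pow, ← h, coeff_twist_monomial g (by omega)]
      · rw [if_neg h]
        refine coeff_eq_zero_of_natDegree_lt ((hterm_deg i0 m).trans_lt ?_)
        rcases hterm i0 (hp0' ▸ hp0i) m hm with ⟨_, h'⟩ | h'
        · exact absurd h' h
        · exact h'
    · intro i hi hne
      rw [finset_sum_coeff]
      refine Finset.sum_eq_zero fun m hm => coeff_eq_zero_of_natDegree_lt ((hterm_deg i m).trans_lt ?_)
      rcases hterm i hi m hm with ⟨h', _⟩ | h'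
      · exact absurd h' hne
      · exact h'
  have hne : MvPolynomial.C (σ := Fin r) (MvPolynomial.aeval g (MvPolynomial.homogeneousComponent D (f.coeff i0))) ≠ 0 :=
    fun h => hg (MvPolynomial.C_eq_zero.1 h)
  have hnat : (eval₂ (twist g N).toRingHom X f).natDegree = N * D + i0 :=
    le_antisymm hFle (le_natDegree_of_ne_zero (hcoeff ▸ hne))
  refine ⟨by rw [leadingCoeff, hnat, hcoeff], fun hpos => ?_⟩
  rw [hnat]
  rcases Nat.eq_zero_or_pos D with h | h
  · subst h
    obtain ⟨m, hm⟩ := MvPolynomial.support_nonempty.2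
      (show f.coeff f.natDegree ≠ 0 from leadingCoeff_ne_zero.2 hf)
    have hi := natDegree_mem_support_of_nonzero hf
    have := hmax _ hi m hm (Nat.le_zero.1 (hdeg _ hi m hm))
    omega
  · exact Nat.add_pos_left (Nat.mul_pos (by omega) h) _

end Groth.Agent.H17.MovLem
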